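import Mathlib

/-!
The least ideal modulo which a module with free reduction along a nilpotent ideal becomes free.
-/

set_option autoImplicit false
set_option linter.style.haveILetI false
set_option backward.isDefEq.respectTransparency false

universe u

open TensorProduct

namespace Groth.Agent.FlatCrit

theorem eq_bot_of_le_smul {R : Type u} [CommRing R] {N : Type u} [AddCommGroup N] [Module R N]
    {I : Ideal R} (hI : IsNilpotent I) (K : Submodule R N) (h : K ≤ I • K) : K = ⊥ := by
  obtain ⟨n, hn⟩ := hI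
  have hk : ∀ k : ℕ, K ≤ I ^ k • K := by
    intro k
    induction k with
    | zero => simp
    | succ k ih =>
      rw [pow_succ, Submodule.mul_smul]
      exact ih.trans (Submodule.smul_mono le_rfl h)
  have := hk n
  rwa [hn, Ideal.zero_eq_bot, Submodule.bot_smul, le_bot_iff] at this

theorem exists_ker_lTensor {A : Type u} [CommRing A] {F M A' : Type u} [AddCommGroup F] [Module A F]
    [AddCommGroup M] [Module A M] [AddCommGroup A'] [Module A A'] (φ : F →ₗ[A] M)
    (hφ : Function.Surjective φ) (z : A' ⊗[A] F) (hz : φ.lTensor A' z = 0) :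
    ∃ w, (LinearMap.ker φ).subtype.lTensor A' w = z :=
  (lTensor_exact A' (LinearMap.exact_subtype_ker_map φ) hφ z).1 hz

/-- Free reduction modulo a nilpotent ideal: one ideal governs freeness and flatness. -/
theorem exists_ideal_free_iff {A : Type u} [CommRing A] (M : Type u) [AddCommGroup M] [Module A M]
    (J : Ideal A) (hJ : IsNilpotent J) (hfree : Module.Free (A ⧸ J) ((A ⧸ J) ⊗[A] M)) :
    ∃ R₀ : Ideal A, ∀ (A' : Type u) [CommRing A'] [Algebra A A'],
      (Module.Free A' (A' ⊗[A] M) ↔ Ideal.map (algebraMap A A') R₀ = ⊥) ∧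
      (Module.Flat A' (A' ⊗[A] M) ↔ Ideal.map (algebraMap A A') R₀ = ⊥) := by
  classical
  let ι := Module.Free.ChooseBasisIndex (A ⧸ J) ((A ⧸ J) ⊗[A] M)
  let b := Module.Free.chooseBasis (A ⧸ J) ((A ⧸ J) ⊗[A] M)
  let q : M →ₗ[A] (A ⧸ J) ⊗[A] M := TensorProduct.mk A (A ⧸ J) M 1
  have hq : Function.Surjective q :=
    TensorProduct.mk_surjective A M (A ⧸ J) Ideal.Quotient.mk_surjective
  choose v hv using fun j => hq (b j)
  let φ : (ι →₀ A) →ₗ[A] M := Finsupp.linearCombination A v
  have hbij : ∀ (l : ι →₀ A) (j : ι), b.repr (q (φ l)) j = Ideal.Quotient.mk J (l j) := by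
    intro l j
    induction l using Finsupp.induction_linear with
    | zero => rw [map_zero φ, map_zero q, map_zero b.repr]; exact (map_zero _).symm
    | add f g hf hg =>
      rw [map_add φ, map_add q, map_add b.repr, Finsupp.add_apply, Finsupp.add_apply, hf, hg]
      exact (map_add _ _ _).symm
    | single i a =>
      rw [Finsupp.linearCombination_single, map_smul q, hv,
        ← algebraMap_smul (A ⧸ J) a (b i), map_smul b.repr, b.repr_self, Finsupp.smul_single,
        smul_eq_mul, mul_one, Ideal.Quotient.algebraMap_eq]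
      by_cases h : i = j
      · subst h; rw [Finsupp.single_eq_same, Finsupp.single_eq_same]
      · rw [Finsupp.single_eq_of_ne (Ne.symm h), Finsupp.single_eq_of_ne (Ne.symm h)]
        exact (map_zero _).symm
  have hkerq : ∀ y : M, q y = 0 → y ∈ J • (⊤ : Submodule A M) := fun y hy => by
    have h1 : (TensorProduct.quotTensorEquivQuotSMul M J) (q y) = Submodule.Quotient.mk y := by
      show (TensorProduct.quotTensorEquivQuotSMul M J) (Ideal.Quotient.mk J 1 ⊗ₜ[A] y) = _
      simp
    rw [hy, map_zero] at h1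
    exact (Submodule.Quotient.mk_eq_zero _).1 h1.symm
  have hsurj : Function.Surjective φ := by
    have happ : ∀ y : M, ∃ l, y - φ l ∈ J • (⊤ : Submodule A M) := fun y => by
      obtain ⟨l, hl⟩ := Finsupp.mapRange_surjective (Ideal.Quotient.mk J) (map_zero _)
        Ideal.Quotient.mk_surjective (b.repr (q y))
      refine ⟨l, hkerq _ (b.repr.injective ?_)⟩
      ext j
      rw [map_sub, map_sub, map_zero, Finsupp.sub_apply, hbij, ← hl, Finsupp.mapRange_apply,
        sub_self]
      rfl
    have hle : (⊤ : Submodule A (M ⧸ LinearMap.range φ)) ≤ J • ⊤ := by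
      rintro w -
      obtain ⟨y, rfl⟩ := Submodule.mkQ_surjective _ w
      obtain ⟨l, hl⟩ := happ y
      have h2 := Submodule.smul_top_le_comap_smul_top J (LinearMap.range φ).mkQ hl
      rw [Submodule.mem_comap, map_sub] at h2
      rwa [show (LinearMap.range φ).mkQ (φ l) = 0 from (Submodule.Quotient.mk_eq_zero _).2 ⟨l, rfl⟩,
        sub_zero] at h2
    intro y
    have h0 : (LinearMap.range φ).mkQ y ∈ (⊥ : Submodule A (M ⧸ LinearMap.range φ)) :=
      (eq_bot_of_le_smul hJ ⊤ hle).le Submodule.mem_top
    exact (Submodule.Quotient.mk_eq_zero _).1 h0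
  let R₀ : Ideal A := Ideal.span {a | ∃ l, φ l = 0 ∧ ∃ j, l j = a}
  refine ⟨R₀, fun A' _ _ => ?_⟩
  let e : A' ⊗[A] (ι →₀ A) ≃ₗ[A'] ι →₀ A' := TensorProduct.finsuppScalarRight A A' A' ι
  have he : ∀ (c : A') (l : ι →₀ A) j, e (c ⊗ₜ l) j = l j • c := fun c l j => by simp [e]
  let Φ := φ.baseChange A'
  have hΦ : Function.Surjective Φ := LinearMap.lTensor_surjective A' hsurj
  have key₁ : Ideal.map (algebraMap A A') R₀ = ⊥ → Module.Free A' (A' ⊗[A] M) := by
    intro h0
    have hinj : Function.Injective Φ := by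
      rw [injective_iff_map_eq_zero]
      intro z hz
      obtain ⟨w, rfl⟩ := exists_ker_lTensor φ hsurj z hz
      clear hz
      induction w using TensorProduct.induction_on with
      | zero => simp
      | add p r hp hr => rw [map_add, hp, hr, add_zero]
      | tmul c l =>
        refine e.injective (Finsupp.ext fun j => ?_)
        have hl : algebraMap A A' (l.1 j) = 0 :=
          Ideal.mem_bot.1 (h0.le (Ideal.mem_map_of_mem _ (Ideal.subset_span ⟨l.1, l.2, j, rfl⟩)))
        rw [LinearMap.lTensor_tmul, he, map_zero, Finsupp.zero_apply, Algebra.smul_def]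
        show algebraMap A A' (l.1 j) * c = 0
        rw [hl, zero_mul]
    exact Module.Free.of_equiv (e.symm.trans (LinearEquiv.ofBijective Φ ⟨hinj, hΦ⟩))
  have key₂ : Module.Flat A' (A' ⊗[A] M) → Ideal.map (algebraMap A A') R₀ = ⊥ := by
    intro hfl
    let J' := J.map (algebraMap A A')
    let K' := LinearMap.ker Φ
    have hJ' : IsNilpotent J' := by
      obtain ⟨n, hn⟩ := hJ
      exact ⟨n, by rw [← Ideal.map_pow, hn, Ideal.zero_eq_bot, Ideal.map_bot]; rfl⟩
    let γ : (A ⧸ J) →ₐ[A] A' ⧸ J' := Ideal.Quotient.liftₐ J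
      ((Ideal.Quotient.mkₐ A J').comp (Algebra.ofId A A'))
      fun a ha => Ideal.Quotient.eq_zero_iff_mem.2 (Ideal.mem_map_of_mem _ ha)
    let lam : ι → A' ⊗[A] M →ₗ[A'] A' ⧸ J' := fun j => LinearMap.liftBaseChange A'
      (γ.toLinearMap ∘ₗ ((b.coord j).restrictScalars A) ∘ₗ q)
    have hlam : ∀ z j, lam j (Φ z) = Ideal.Quotient.mk J' (e z j) := by
      intro z j
      induction z using TensorProduct.induction_on with
      | zero => simp
      | add p r hp hr => rw [map_add, map_add, map_add, Finsupp.add_apply, map_add, hp, hr]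
      | tmul c l =>
        rw [LinearMap.baseChange_tmul, LinearMap.liftBaseChange_tmul, he]
        show c • γ (b.repr (q (φ l)) j) = _
        rw [hbij, Algebra.smul_def (l j) c, mul_comm, map_mul]
        rfl
    have hle : K' ≤ J' • K' := by
      intro z hz
      have hz0 : Φ z = 0 := hz
      have hc : ∀ j, e z j ∈ J' := fun j => by
        rw [← Ideal.Quotient.eq_zero_iff_mem, ← hlam, hz0, map_zero]
      let s := (e z).support
      let ej : ι → A' ⊗[A] (ι →₀ A) := fun j => e.symm (Finsupp.single j 1)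
      have hzsum : z = ∑ j : s, e z j.1 • ej j.1 := by
        apply e.injective
        rw [map_sum, Finset.sum_coe_sort s fun j => e (e z j • ej j)]
        simp only [map_smul, ej, LinearEquiv.apply_symm_apply, Finsupp.smul_single, smul_eq_mul,
          mul_one]
        exact (e z).sum_single.symm
      have hrel : ∑ j : s, e z j.1 • Φ (ej j.1) = 0 := by
        simp only [← map_smul, ← map_sum, ← hzsum, hz0]
      obtain ⟨k, a, y, hy, ha⟩ := hfl.isTrivialRelation_of_sum_smul_eq_zero hrel
      choose Y hY using fun m => hΦ (y m)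
      have hmem : ∀ j : s, ej j.1 - ∑ m, a j m • Y m ∈ K' := fun j => by
        rw [LinearMap.mem_ker, map_sub, map_sum, show Φ (ej j.1) = ∑ m, a j m • y m from hy j]
        simp only [map_smul, hY, sub_self]
      have h2 : z = ∑ j : s, e z j.1 • (ej j.1 - ∑ m, a j m • Y m) := by
        simp only [smul_sub, Finset.sum_sub_distrib, Finset.smul_sum, smul_smul]
        rw [Finset.sum_comm]
        simp only [← Finset.sum_smul, ha, zero_smul, Finset.sum_const_zero, sub_zero]
        exact hzsum
      rw [h2]
      exact Submodule.sum_mem _ fun j _ => Submodule.smul_mem_smul (hc _) (hmem j)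
    have hbot := eq_bot_of_le_smul hJ' K' hle
    rw [Ideal.map_eq_bot_iff_le_ker, Ideal.span_le]
    rintro _ ⟨l, hl, j, rfl⟩
    have h3 : (1 : A') ⊗ₜ[A] l ∈ K' := by
      rw [LinearMap.mem_ker, LinearMap.baseChange_tmul, hl, TensorProduct.tmul_zero]
    rw [hbot, Submodule.mem_bot] at h3
    have h4 := he 1 l j
    rw [h3, map_zero, Finsupp.zero_apply, Algebra.smul_def, mul_one] at h4
    exact h4.symm
  refine ⟨⟨fun h => key₂ (@Module.Flat.of_free A' (A' ⊗[A] M) _ _ _ h), key₁⟩, key₂, fun h => ?_⟩
  haveI := key₁ h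
  exact Module.Flat.of_free

end Groth.Agent.FlatCrit
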