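import Mathlib
import Groth.Agent.FlatDevLib.Basic

/-!
Flatness criteria along a nilpotent ideal: graded injectivity, flatness at finitely many primes,
ideally separated modules.
-/

set_option autoImplicit false
set_option linter.style.haveILetI false
set_option backward.isDefEq.respectTransparency false

universe u

open TensorProduct

namespace Groth.Agent.FlatCrit

variable {A : Type u} [CommRing A] (I : Ideal A) (M : Type u) [AddCommGroup M] [Module A M]

/-- Multiplication `J ⊗ M → M`. -/
noncomputable def mulMap (J : Ideal A) : J ⊗[A] M →ₗ[A] M :=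
  (TensorProduct.lid A M).toLinearMap ∘ₗ (Submodule.subtype J).rTensor M

theorem mulMap_tmul (J : Ideal A) (a : J) (x : M) : mulMap M J (a ⊗ₜ x) = (a : A) • x := by
  simp [mulMap]

theorem mulMap_injective_iff (J : Ideal A) :
    Function.Injective (mulMap M J) ↔ Function.Injective ((Submodule.subtype J).rTensor M) := by
  rw [mulMap, LinearMap.coe_comp, LinearEquiv.coe_coe, EquivLike.comp_injective]

theorem range_mulMap (J : Ideal A) : LinearMap.range (mulMap M J) = J • (⊤ : Submodule A M) := by
  refine le_antisymm ?_ (Submodule.smul_le.2 fun a ha x _ => ⟨⟨a, ha⟩ ⊗ₜ x, mulMap_tmul M J _ _⟩)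
  rintro _ ⟨z, rfl⟩
  induction z using TensorProduct.induction_on with
  | zero => simp
  | tmul a x => rw [mulMap_tmul]; exact Submodule.smul_mem_smul a.2 Submodule.mem_top
  | add p q hp hq => rw [map_add]; exact add_mem hp hq

/-- The inclusion of consecutive powers. -/
abbrev incl (n : ℕ) : ↥(I ^ (n + 1)) →ₗ[A] ↥(I ^ n) :=
  Submodule.inclusion (Ideal.pow_le_pow_right n.le_succ)

theorem mulMap_incl (n : ℕ) (z : ↥(I ^ (n + 1)) ⊗[A] M) :
    mulMap M (I ^ n) ((incl I n).rTensor M z) = mulMap M (I ^ (n + 1)) z := by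
  simp only [mulMap, LinearMap.comp_apply, ← LinearMap.rTensor_comp_apply]
  rfl

/-- Injectivity in the associated graded module. -/
def GrInj : Prop :=
  ∀ (n : ℕ) (z : ↥(I ^ n) ⊗[A] M), mulMap M (I ^ n) z ∈ I ^ (n + 1) • (⊤ : Submodule A M) →
    z ∈ LinearMap.range ((incl I n).rTensor M)

theorem grInj_of_flat [Module.Flat A M] : GrInj I M := by
  intro n z hz
  rw [← range_mulMap] at hz
  obtain ⟨z', hz'⟩ := hz
  exact ⟨z', (mulMap_injective_iff M _).2
    (Module.Flat.rTensor_preserves_injective_linearMap _ Subtype.val_injective)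
    (by rw [mulMap_incl, hz'])⟩

variable {I M}

theorem mulMap_pow_injective (hI : IsNilpotent I) (h : GrInj I M) :
    ∀ n : ℕ, Function.Injective (mulMap M (I ^ n)) := by
  obtain ⟨N, hN⟩ := hI
  have key : ∀ d n : ℕ, N ≤ n + d → Function.Injective (mulMap M (I ^ n)) := by
    intro d
    induction d with
    | zero =>
      intro n hn
      have h0 : I ^ n = ⊥ := le_bot_iff.1 ((Ideal.pow_le_pow_right hn).trans hN.le)
      haveI : Subsingleton ↥(I ^ n) := by rw [h0]; infer_instance
      exact Function.injective_of_subsingleton _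
    | succ d ih =>
      intro n hn
      rw [injective_iff_map_eq_zero]
      intro z hz
      obtain ⟨z', rfl⟩ := h n z (by rw [hz]; exact zero_mem _)
      rw [mulMap_incl, ← map_zero (mulMap M (I ^ (n + 1)))] at hz
      rw [ih (n + 1) (by omega) hz, map_zero]
  exact fun n => key N n (by omega)

/-- Flatness from flatness modulo a nilpotent ideal and injectivity of multiplication. -/
theorem flat_of_nilpotent (hI : IsNilpotent I) [Module.Flat (A ⧸ I) ((A ⧸ I) ⊗[A] M)]
    (h : Function.Injective ((Submodule.subtype I).rTensor M)) : Module.Flat A M := by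
  obtain ⟨N, hN⟩ := hI
  haveI := FlatDevLib.flat_mod_pow (M := M) I h N
  have h0 : I ^ (N + 1) = ⊥ := le_bot_iff.1 ((Ideal.pow_le_pow_right N.le_succ).trans hN.le)
  refine Module.Flat.iff_rTensor_injective'.mpr fun J => ?_
  have ht : Module.IsTorsionBySet A A ((I ^ (N + 1) : Ideal A) : Set A) := fun x a => by
    rw [show (a : A) = 0 from h0.le a.2, zero_smul]
  exact FlatDevLib.rTensor_injective_of_killed (I ^ (N + 1))
    (FlatDevLib.isTorsionBySet_sub ht J) ht J.subtype J.subtype_injective

theorem flat_of_grInj (hI : IsNilpotent I) [Module.Flat (A ⧸ I) ((A ⧸ I) ⊗[A] M)]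
    (h : GrInj I M) : Module.Flat A M := by
  refine flat_of_nilpotent hI ?_
  rw [← mulMap_injective_iff]
  have h1 := mulMap_pow_injective hI h 1
  rwa [pow_one] at h1

/-- Flatness from flatness modulo a nilpotent ideal and at primes carrying every element. -/
theorem flat_of_flat_mod_nilpotent_of_primes (hI : IsNilpotent I)
    [Module.Flat (A ⧸ I) ((A ⧸ I) ⊗[A] M)] {ι : Type*} [Finite ι] (P : ι → Ideal A)
    [∀ i, (P i).IsPrime] (hP : ∀ r : A, (∀ i, ∃ t ∉ P i, t * r = 0) → r = 0)
    (hflat : ∀ i, Module.Flat A (LocalizedModule (P i).primeCompl M)) : Module.Flat A M := by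
  classical
  cases nonempty_fintype ι
  let S : Submonoid A := ⨅ i, (P i).primeCompl
  have hS : ∀ s ∈ S, ∀ i, s ∉ P i := fun s hs i => (Submonoid.mem_iInf.1 hs i :)
  let A' := Localization S
  have hinj : Function.Injective (algebraMap A A') := by
    rw [injective_iff_map_eq_zero]
    intro r hr
    obtain ⟨⟨s, hs⟩, hsr⟩ := (IsLocalization.map_eq_zero_iff S A' r).1 hr
    exact hP r fun i => ⟨s, hS s hs i, hsr⟩
  haveI : Module.Flat A (A' ⊗[A] M) := by
    rw [Module.Flat.iff_lTensor_injective']
    intro J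
    let l : M →ₗ[A] A' ⊗[A] M := TensorProduct.mk A A' M 1
    let L := AlgebraTensorModule.rTensor A J l
    rw [injective_iff_map_eq_zero]
    intro z hz
    obtain ⟨⟨z', s, hs⟩, hz'⟩ := IsLocalizedModule.surj S L z
    have hnat : ∀ {X : Type u} [AddCommGroup X] [Module A X] (g : M →ₗ[A] X) (w : M ⊗[A] J),
        g.rTensor A (J.subtype.lTensor M w) = J.subtype.lTensor X (g.rTensor J w) := by
      intro X _ _ g w
      rw [← LinearMap.comp_apply, LinearMap.rTensor_comp_lTensor, ← LinearMap.lTensor_comp_rTensor,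
        LinearMap.comp_apply]
    have h1 : AlgebraTensorModule.rTensor A A l (J.subtype.lTensor M z') = 0 := by
      show l.rTensor A (J.subtype.lTensor M z') = 0
      rw [hnat, show l.rTensor J z' = L z' from rfl, ← hz', Submonoid.smul_def, map_smul, hz,
        smul_zero]
    obtain ⟨⟨s', hs'⟩, h2⟩ := (IsLocalizedModule.eq_zero_iff S
      (AlgebraTensorModule.rTensor A A l)).1 h1
    let z'' := s' • z'
    have h3 : ∀ i, ∃ t ∉ P i, t • z'' = 0 := by
      intro i
      let li := LocalizedModule.mkLinearMap (P i).primeCompl M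
      haveI := hflat i
      have h4 : li.rTensor J z'' = 0 := by
        refine Module.Flat.lTensor_preserves_injective_linearMap (M := LocalizedModule (P i).primeCompl M)
          J.subtype J.subtype_injective ?_
        rw [map_zero, ← hnat, map_smul, show s' • J.subtype.lTensor M z' = 0 from h2, map_zero]
      obtain ⟨⟨t, ht⟩, h5⟩ := (IsLocalizedModule.eq_zero_iff (P i).primeCompl
        (AlgebraTensorModule.rTensor A J li)).1 h4
      exact ⟨t, ht, h5⟩
    obtain ⟨t, htS, ht⟩ : ∃ t ∈ S, t • z'' = 0 := by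
      let 𝔞 : Ideal A :=
        { carrier := {t | t • z'' = 0}
          add_mem' := fun {a b} (ha : a • z'' = 0) (hb : b • z'' = 0) => by
            show (a + b) • z'' = 0
            rw [add_smul, ha, hb, add_zero]
          zero_mem' := zero_smul A z''
          smul_mem' := fun c a (ha : a • z'' = 0) => by
            show (c * a) • z'' = 0
            rw [mul_smul, ha, smul_zero] }
      by_contra hcon
      push Not at hcon
      have hsub : (𝔞 : Set A) ⊆ ⋃ i ∈ (↑(Finset.univ : Finset ι) : Set ι), (P i : Set A) := by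
        intro t ht
        by_contra htu
        refine hcon t (Submonoid.mem_iInf.2 fun i (hi : t ∈ P i) => htu ?_) ht
        exact Set.mem_biUnion (by simp) hi
      cases isEmpty_or_nonempty ι with
      | inl h => exact hcon 0 (Submonoid.mem_iInf.2 fun i => h.elim i) (zero_smul A z'')
      | inr h =>
        obtain ⟨i, -, hi⟩ := (Ideal.subset_union_prime h.some h.some fun i _ _ _ => inferInstance).1 hsub
        obtain ⟨t, ht, htz⟩ := h3 i
        exact ht (hi htz)
    have hu : ∀ a ∈ S, ∀ w : (A' ⊗[A] M) ⊗[A] J, a • w = 0 → w = 0 := fun a ha w hw =>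
      ((Module.End.isUnit_iff _).1 (IsLocalizedModule.map_units L ⟨a, ha⟩)).injective
        (by simpa using hw)
    refine hu _ (S.mul_mem (S.mul_mem htS hs') hs) z ?_
    rw [mul_smul, show s • z = L z' from hz', ← map_smul, mul_smul]
    show L (t • z'') = 0
    rw [ht, map_zero]
  haveI : Module.Flat A' (A' ⊗[A] M) := (Module.flat_iff_of_isLocalization A' S _).2 inferInstance
  exact FlatDevLib.flat_of_flat_mod_nilpotent A' hinj I hI

/-- The same for a quotient of the ring, with the primes upstairs. -/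
theorem flat_quotient_of_primes (J 𝔞 : Ideal A) (hle : 𝔞 ≤ J) (hpow : ∃ k, J ^ k ≤ 𝔞)
    [Module.Flat (A ⧸ J) ((A ⧸ J) ⊗[A] M)] {ι : Type*} [Finite ι] (p : ι → Ideal A)
    [∀ i, (p i).IsPrime] (hp : ∀ i, J ≤ p i)
    (hP : ∀ r : A, (∀ i, ∃ t ∉ p i, t * r ∈ 𝔞) → r ∈ 𝔞)
    (hflat : ∀ i, Module.Flat (Localization.AtPrime (p i)) (LocalizedModule (p i).primeCompl M)) :
    Module.Flat (A ⧸ 𝔞) ((A ⧸ 𝔞) ⊗[A] M) := by
  classical
  let R := A ⧸ 𝔞
  let π : A →+* R := Ideal.Quotient.mk 𝔞
  have hπ : Function.Surjective π := Ideal.Quotient.mk_surjective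
  have hker : ∀ i, RingHom.ker π ≤ p i := fun i => by
    rw [Ideal.mk_ker]; exact hle.trans (hp i)
  haveI : ∀ i, ((p i).map π).IsPrime := fun i => Ideal.map_isPrime_of_surjective hπ (hker i)
  have hmem : ∀ i a, π a ∈ (p i).map π ↔ a ∈ p i := fun i a => by
    rw [← Ideal.mem_comap, Ideal.comap_map_of_surjective _ hπ,
      show Ideal.comap π ⊥ = RingHom.ker π from (RingHom.ker_eq_comap_bot π).symm,
      sup_eq_left.2 (hker i)]
  obtain ⟨k, hk⟩ := hpow
  have hnil : IsNilpotent (J.map π) :=
    ⟨k, by rw [← Ideal.map_pow, Ideal.zero_eq_bot, Ideal.map_eq_bot_iff_le_ker, Ideal.mk_ker]; exact hk⟩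
  haveI : Module.Flat (R ⧸ J.map π) ((R ⧸ J.map π) ⊗[R] (R ⊗[A] M)) := by
    letI : Algebra (A ⧸ J) (R ⧸ J.map π) :=
      (Ideal.quotientMap (J.map π) π Ideal.le_comap_map).toAlgebra
    haveI : IsScalarTower A (A ⧸ J) (R ⧸ J.map π) := .of_algebraMap_eq' rfl
    exact Module.Flat.of_linearEquiv ((AlgebraTensorModule.cancelBaseChange A R (R ⧸ J.map π) _ M).trans
      (AlgebraTensorModule.cancelBaseChange A (A ⧸ J) (R ⧸ J.map π) _ M).symm)
  refine flat_of_flat_mod_nilpotent_of_primes (A := R) (M := R ⊗[A] M) hnil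
    (fun i => (p i).map π) (fun r hr => ?_) fun i => ?_
  · obtain ⟨a, rfl⟩ := hπ r
    refine Ideal.Quotient.eq_zero_iff_mem.2 (hP a fun i => ?_)
    obtain ⟨t, ht, hta⟩ := hr i
    obtain ⟨t, rfl⟩ := hπ t
    exact ⟨t, fun h => ht ((hmem i t).2 h), Ideal.Quotient.eq_zero_iff_mem.1 (by rw [map_mul]; exact hta)⟩
  · haveI : Module.Flat A (LocalizedModule (p i).primeCompl M) :=
      haveI := hflat i
      Module.Flat.trans A (Localization.AtPrime (p i)) _
    let l := LocalizedModule.mkLinearMap (p i).primeCompl M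
    let F : R ⊗[A] M →ₗ[R] R ⊗[A] LocalizedModule (p i).primeCompl M :=
      AlgebraTensorModule.lTensor R R l
    haveI : IsLocalizedModule (p i).primeCompl (F.restrictScalars A) := by
      have heq : F.restrictScalars A = (TensorProduct.comm A _ R).toLinearMap ∘ₗ
          (AlgebraTensorModule.rTensor A R l) ∘ₗ (TensorProduct.comm A R M).toLinearMap :=
        TensorProduct.ext' fun r x => rfl
      rw [heq]
      infer_instance
    have hcompl : Algebra.algebraMapSubmonoid R (p i).primeCompl = ((p i).map π).primeCompl := by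
      ext r
      obtain ⟨a, rfl⟩ := hπ r
      constructor
      · rintro ⟨b, hb, hba⟩ hmem'
        rw [← hba] at hmem'
        exact hb ((hmem i b).1 hmem')
      · exact fun h => ⟨a, fun ha => h ((hmem i a).2 ha), rfl⟩
    haveI : IsLocalizedModule ((p i).map π).primeCompl F :=
      hcompl ▸ IsLocalizedModule.of_restrictScalars (p i).primeCompl F
    exact Module.Flat.of_linearEquiv (IsLocalizedModule.iso ((p i).map π).primeCompl F)

/-- Ideally separated modules over a Noetherian ring are flat when all their reductions are. -/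
theorem flat_of_ideallySeparated [IsNoetherianRing A] (J : Ideal A)
    (hsep : ∀ 𝔞 : Ideal A, IsHausdorff J (↥𝔞 ⊗[A] M))
    (h : ∀ n : ℕ, Module.Flat (A ⧸ J ^ n) ((A ⧸ J ^ n) ⊗[A] M)) : Module.Flat A M := by
  rw [Module.Flat.iff_rTensor_injective']
  intro 𝔞
  rw [injective_iff_map_eq_zero]
  intro z hz
  refine (hsep 𝔞).haus z fun k => ?_
  rw [SModEq.zero]
  obtain ⟨d, hd⟩ := Ideal.exists_pow_inf_eq_pow_smul J (M := A) 𝔞
  let n := k + d
  haveI := h n
  let π : A →ₗ[A] A ⧸ J ^ n := (Ideal.Quotient.mkₐ A (J ^ n)).toLinearMap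
  let Jb : Submodule A (A ⧸ J ^ n) := Submodule.map π 𝔞
  let π' : 𝔞 →ₗ[A] Jb := LinearMap.codRestrict Jb (π ∘ₗ 𝔞.subtype) fun a => ⟨a, a.2, rfl⟩
  have hπ' : Function.Surjective π' := by
    rintro ⟨_, a, ha, rfl⟩
    exact ⟨⟨a, ha⟩, rfl⟩
  have hker : LinearMap.ker π' ≤ J ^ k • (⊤ : Submodule A 𝔞) := by
    intro a ha
    have ha' : (a : A) ∈ J ^ n := Ideal.Quotient.eq_zero_iff_mem.1 (congrArg Subtype.val ha)
    have h1 : (a : A) ∈ J ^ n • (⊤ : Submodule A A) ⊓ 𝔞 :=
      ⟨by rwa [smul_eq_mul, Ideal.mul_top], a.2⟩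
    rw [hd n (Nat.le_add_left d k), show n - d = k from Nat.add_sub_cancel k d] at h1
    rw [Submodule.mem_smul_top_iff]
    exact Submodule.smul_mono le_rfl inf_le_right h1
  have h0 : π'.rTensor M z = 0 := by
    have hinj : Function.Injective (Jb.subtype.rTensor M) :=
      FlatDevLib.rTensor_injective_of_killed (J ^ n)
        (FlatDevLib.isTorsionBySet_sub (FlatDevLib.isTorsionBySet_quot _) Jb)
        (FlatDevLib.isTorsionBySet_quot _) Jb.subtype Jb.subtype_injective
    apply hinj
    rw [map_zero, ← LinearMap.rTensor_comp_apply, show Jb.subtype ∘ₗ π' = π ∘ₗ 𝔞.subtype from rfl,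
      LinearMap.rTensor_comp_apply, hz, map_zero]
  obtain ⟨w, rfl⟩ := (rTensor_exact M (LinearMap.exact_subtype_ker_map π') hπ' z).1 h0
  clear h0 hz
  induction w using TensorProduct.induction_on with
  | zero => simp
  | tmul a x =>
    exact Submodule.smul_top_le_comap_smul_top (J ^ k) ((TensorProduct.mk A 𝔞 M).flip x) (hker a.2)
  | add p q hp hq => rw [map_add]; exact add_mem hp hq

end Groth.Agent.FlatCrit
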