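import Mathlib
import Groth.Agent.FlatCrit.Nilpotent
import Groth.Prelude.Def_AssocGr
import Groth.Prelude.Def_AssocGrMod

/-!
Graded injectivity from the associated graded module, and descent along a faithfully flat reduction.
-/

set_option autoImplicit false
set_option linter.style.haveILetI false
set_option backward.isDefEq.respectTransparency false

universe u

open TensorProduct

namespace Groth.Agent.FlatCrit

theorem monomM_eq {A : Type u} [CommRing A] {I : Ideal A} {M : Type u} [AddCommGroup M] [Module A M]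
    (F : I.Filtration M) (n : ℕ) (x y : F.N n) (h : (x : M) = y) :
    AssocGr.monomM F n x = AssocGr.monomM F n y := by rw [Subtype.ext h]

/-- Graded injectivity in terms of the associated graded module. -/
theorem grInj_of_assocGr {A : Type u} [CommRing A] (I : Ideal A) (M : Type u) [AddCommGroup M]
    [Module A M]
    (hinj : ∀ (n k : ℕ) (a : Fin k → ↥((FiltBl.IdealFiltration.adic I).F n))
      (x : Fin k → ↥((Rees.powFilt I M).N 0)),
      (∑ i, (AssocGr.inDeg (FiltBl.IdealFiltration.adic I) n (a i) :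
          AssocGr.GrRing (FiltBl.IdealFiltration.adic I)) •
        (AssocGr.inDegM (Rees.powFilt I M) 0 (x i) : AssocGr.GrMod (Rees.powFilt I M))) = 0 →
      (∑ i, (AssocGr.inDeg (FiltBl.IdealFiltration.adic I) n (a i)) ⊗ₜ[A]
          (Submodule.Quotient.mk (x i : M)) :
        ↥(AssocGr.gr (FiltBl.IdealFiltration.adic I) n) ⊗[A] (M ⧸ (I • (⊤ : Submodule A M)))) = 0) :
    GrInj I M := by
  classical
  intro n z hz
  obtain ⟨S, rfl⟩ := TensorProduct.exists_finset z
  let e := S.equivFin.symm
  let a : Fin S.card → ↥((FiltBl.IdealFiltration.adic I).F n) := fun i => (e i).1.1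
  have hN0 : (Rees.powFilt I M).N 0 = ⊤ := by simp [Rees.powFilt, Ideal.stableFiltration]
  let x : Fin S.card → ↥((Rees.powFilt I M).N 0) := fun i => ⟨(e i).1.2, by rw [hN0]; trivial⟩
  have hsum : ∑ p ∈ S, p.1 ⊗ₜ[A] p.2 = ∑ i, (a i : ↥(I ^ n)) ⊗ₜ[A] (x i : M) := by
    rw [← Finset.sum_coe_sort, ← e.sum_comp]
  rw [hsum] at hz ⊢
  have hμ : ∑ i, (a i : A) • (x i : M) ∈ I ^ (n + 1) • (⊤ : Submodule A M) := by
    simpa [map_sum, mulMap_tmul] using hz
  have hzero := hinj n S.card a x (by
    simp only [AssocGr.coe_inDeg, AssocGr.coe_inDegM, AssocGr.mkG_smul_mkGM, ← map_sum,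
      AssocGr.mkGM_eq_zero_iff, AssocGr.mem_succMod_iff]
    intro m
    have hterm : ∀ i, AssocGr.ReesM.coeff (Rees.powFilt I M)
        (((AssocGr.monom (FiltBl.IdealFiltration.adic I) n (a i) : _) :
          (FiltBl.IdealFiltration.adic I).rees) • AssocGr.monomM (Rees.powFilt I M) 0 (x i)) m =
        if m = n then (a i : A) • (x i : M) else 0 := by
      intro i
      rw [AssocGr.ReesM.coeff_smul]
      simp only [AssocGr.coe_coe_monom, Polynomial.coeff_monomial, AssocGr.ReesM.coeff_monomM]
      split_ifs with h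
      · subst h
        rw [Finset.sum_eq_single (m, 0)] <;> aesop
      · refine Finset.sum_eq_zero fun p hp => ?_
        rw [Finset.HasAntidiagonal.mem_antidiagonal] at hp
        split_ifs <;> first | simp | omega
    rw [← AssocGr.ReesM.coeffHom_apply, map_sum]
    simp only [AssocGr.ReesM.coeffHom_apply, hterm]
    split_ifs with h
    · subst h
      simpa [Rees.powFilt, Ideal.stableFiltration] using hμ
    · simp)
  let π : ↥(I ^ n) →ₗ[A] ↥(AssocGr.gr (FiltBl.IdealFiltration.adic I) n) :=
    AssocGr.inDeg (FiltBl.IdealFiltration.adic I) n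
  let q : M →ₗ[A] M ⧸ (I • ⊤ : Submodule A M) := Submodule.mkQ _
  have hex : Function.Exact (incl I n) π := by
    intro b
    constructor
    · exact fun hb => ⟨⟨b, (AssocGr.inDeg_eq_zero_iff (FiltBl.IdealFiltration.adic I) n b).1 hb⟩, rfl⟩
    · rintro ⟨c, rfl⟩
      exact (AssocGr.inDeg_eq_zero_iff _ n _).2 c.2
  refine (rTensor_exact M hex (AssocGr.inDeg_surjective _ n) _).1 ?_
  have hkill : ∀ w : ↥(AssocGr.gr (FiltBl.IdealFiltration.adic I) n) ⊗[A]
      ↥(I • ⊤ : Submodule A M), (Submodule.subtype _).lTensor _ w = 0 := by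
    intro w
    induction w using TensorProduct.induction_on with
    | zero => simp
    | tmul b y =>
      obtain ⟨b, rfl⟩ := AssocGr.inDeg_surjective _ n b
      rw [LinearMap.lTensor_tmul]
      refine Submodule.smul_induction_on (p := fun v => AssocGr.inDeg _ n b ⊗ₜ[A] v = 0) y.2
        (fun c hc v _ => ?_) fun v v' hv hv' => by rw [TensorProduct.tmul_add, hv, hv', add_zero]
      rw [← TensorProduct.smul_tmul, ← map_smul, (AssocGr.inDeg_eq_zero_iff _ n _).2,
        TensorProduct.zero_tmul]
      show c * (b : A) ∈ I ^ (n + 1)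
      rw [pow_succ']
      exact Ideal.mul_mem_mul hc b.2
    | add u v hu hv => rw [map_add, hu, hv, add_zero]
  have h1 : q.lTensor _ (π.rTensor M (∑ i, (a i : ↥(I ^ n)) ⊗ₜ[A] (x i : M))) = 0 := by
    refine Eq.trans ?_ hzero
    simp only [map_sum]
    rfl
  obtain ⟨w, hw⟩ := (lTensor_exact _ (LinearMap.exact_subtype_mkQ (I • ⊤ : Submodule A M))
    (Submodule.mkQ_surjective _) _).1 h1
  rw [← hw, hkill]

/-- Graded injectivity descends from a flat module with faithfully flat reduction. -/
theorem grInj_of_flat_module {A B : Type u} [CommRing A] [CommRing B] [Algebra A B] (J : Ideal A)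
    (M : Type u) [AddCommGroup M] [Module B M] [Module A M] [IsScalarTower A B M] [Module.Flat A M]
    [Module.Flat (B ⧸ J.map (algebraMap A B)) ((B ⧸ J.map (algebraMap A B)) ⊗[B] M)]
    (hm : ∀ m : Ideal B, m.IsMaximal → J.map (algebraMap A B) ≤ m →
      (m • (⊤ : Submodule B M)) ≠ ⊤) : GrInj J B := by
  classical
  intro n z hz
  let E := ↥(J ^ n) ⧸ LinearMap.range (incl J n)
  let π : ↥(J ^ n) →ₗ[A] E := Submodule.mkQ _
  refine (rTensor_exact B (LinearMap.exact_map_mkQ_range (incl J n)) (Submodule.mkQ_surjective _) z).1 ?_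
  let k : B ⊗[A] E := TensorProduct.comm A E B (π.rTensor B z)
  suffices hk : k = 0 from (TensorProduct.comm A E B).injective (by rw [map_zero]; exact hk)
  have hkillE : ∀ a ∈ J, ∀ e : E, a • e = 0 := by
    intro a ha e
    obtain ⟨b, rfl⟩ := Submodule.mkQ_surjective _ e
    rw [Submodule.mkQ_apply, ← Submodule.Quotient.mk_smul, Submodule.Quotient.mk_eq_zero]
    exact ⟨⟨a * b, by rw [pow_succ']; exact Ideal.mul_mem_mul ha b.2⟩, rfl⟩
  let JB := J.map (algebraMap A B)
  have hkillD : Module.IsTorsionBySet B (B ⊗[A] E) (JB : Set B) := by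
    have hle : JB ≤ Module.annihilator B (B ⊗[A] E) := Ideal.map_le_iff_le_comap.2 fun a ha => by
      rw [Ideal.mem_comap, Module.mem_annihilator]
      intro d
      induction d using TensorProduct.induction_on with
      | zero => simp
      | tmul b e => rw [algebraMap_smul, ← TensorProduct.tmul_smul, hkillE a ha, TensorProduct.tmul_zero]
      | add u v hu hv => rw [smul_add, hu, hv, add_zero]
    exact fun d b => Module.mem_annihilator.1 (hle b.2) d
  by_contra hk
  let ρ : B →ₗ[B] B ⊗[A] E := LinearMap.toSpanSingleton B _ k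
  let 𝔟 : Ideal B := LinearMap.ker ρ
  have hle : JB ≤ 𝔟 := fun b hb => @hkillD k ⟨b, hb⟩
  have hne : 𝔟 ≠ ⊤ := fun h => hk (by
    simpa [ρ] using LinearMap.mem_ker.1 (show (1 : B) ∈ 𝔟 by rw [h]; trivial))
  obtain ⟨m, hmax, hbm⟩ := Ideal.exists_le_maximal 𝔟 hne
  refine hm m hmax (hle.trans hbm) (eq_top_iff.2 fun v _ => ?_)
  let ρ' : B ⧸ 𝔟 →ₗ[B] B ⊗[A] E := Submodule.liftQ 𝔟 ρ le_rfl
  have hinjρ : Function.Injective (ρ'.rTensor M) :=
    FlatDevLib.rTensor_injective_of_killed JB
      (fun x b => by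
        obtain ⟨c, rfl⟩ := Submodule.Quotient.mk_surjective _ x
        rw [← Submodule.Quotient.mk_smul, Submodule.Quotient.mk_eq_zero]
        exact Ideal.mul_mem_right c 𝔟 (hle b.2))
      hkillD ρ' (LinearMap.ker_eq_bot.1 (Submodule.ker_liftQ_eq_bot _ _ _ le_rfl))
  have h1 : ρ'.rTensor M (Submodule.Quotient.mk (1 : B) ⊗ₜ[B] v) = 0 := by
    show (ρ' (Submodule.Quotient.mk 1)) ⊗ₜ[B] v = 0
    rw [show ρ' (Submodule.Quotient.mk 1) = k from one_smul B k]
    let e := AlgebraTensorModule.cancelBaseChange A B B M E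
    refine ((TensorProduct.comm B (B ⊗[A] E) M).trans e).injective ?_
    rw [map_zero, LinearEquiv.trans_apply, TensorProduct.comm_tmul]
    let φ : B →ₗ[A] M := (LinearMap.toSpanSingleton B M v).restrictScalars A
    have hnat : ∀ w : ↥(J ^ n) ⊗[A] B, e (v ⊗ₜ[B] TensorProduct.comm A E B (π.rTensor B w)) =
        TensorProduct.comm A E M (π.rTensor M (φ.lTensor _ w)) := by
      intro w
      induction w using TensorProduct.induction_on with
      | zero => simp
      | tmul a b => simp [e, φ]
      | add p q hp hq => simp only [map_add, TensorProduct.tmul_add, hp, hq]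
    rw [hnat]
    have h2 : φ.lTensor _ z ∈ LinearMap.range ((incl J n).rTensor M) := by
      refine grInj_of_flat J M n _ ?_
      have hμ : ∀ w, mulMap M (J ^ n) (φ.lTensor _ w) = φ (mulMap B (J ^ n) w) := by
        intro w
        induction w using TensorProduct.induction_on with
        | zero => simp
        | tmul a b => rw [LinearMap.lTensor_tmul, mulMap_tmul, mulMap_tmul, map_smul]
        | add p q hp hq => simp only [map_add, hp, hq]
      rw [hμ]
      exact Submodule.smul_top_le_comap_smul_top (J ^ (n + 1)) φ hz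
    obtain ⟨w, hw⟩ := h2
    rw [← hw, ← LinearMap.rTensor_comp_apply,
      show π ∘ₗ incl J n = 0 from LinearMap.range_le_ker_iff.1 (by rw [Submodule.ker_mkQ]),
      LinearMap.rTensor_zero, LinearMap.zero_apply, map_zero]
  have h3 : (TensorProduct.quotTensorEquivQuotSMul M 𝔟) ((Submodule.Quotient.mk (1 : B)) ⊗ₜ[B] v) =
      Submodule.Quotient.mk v := by
    simp
  rw [hinjρ (h1.trans (map_zero _).symm), map_zero] at h3
  exact Submodule.smul_mono hbm le_rfl ((Submodule.Quotient.mk_eq_zero _).1 h3.symm)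

end Groth.Agent.FlatCrit
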