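import Mathlib
import Groth.Agent.FlatCrit.Nilpotent

/-!
Flatness tested modulo an ideal and at finitely many primes.
-/

set_option autoImplicit false
set_option linter.style.haveILetI false
set_option backward.isDefEq.respectTransparency false

universe u

open TensorProduct

namespace Groth.Agent.FlatCrit

variable {A : Type u} [CommRing A] {M : Type u} [AddCommGroup M] [Module A M]

theorem flat_quot_of_linearEquiv {N : Type u} [AddCommGroup N] [Module A N] (I : Ideal A)
    [Module (A ⧸ I) N] [IsScalarTower A (A ⧸ I) N] [Module.Flat (A ⧸ I) N]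
    (e : (A ⧸ I) ⊗[A] M ≃ₗ[A] N) : Module.Flat (A ⧸ I) ((A ⧸ I) ⊗[A] M) :=
  Module.Flat.of_linearEquiv
    { e with
      map_smul' := fun c x => by
        obtain ⟨a, rfl⟩ := Ideal.Quotient.mk_surjective c
        show e (algebraMap A (A ⧸ I) a • x) = algebraMap A (A ⧸ I) a • e x
        rw [algebraMap_smul, algebraMap_smul, map_smul] }

theorem flat_localized [Module.Flat A M] (p : Ideal A) [p.IsPrime] :
    Module.Flat (Localization.AtPrime p) (LocalizedModule p.primeCompl M) :=
  Module.Flat.of_isLocalizedModule (Localization.AtPrime p) p.primeCompl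
    (LocalizedModule.mkLinearMap p.primeCompl M)

/-- The criterion with associated primes of the ring. -/
theorem flat_iff_mod_nilpotent_ass [IsNoetherianRing A] (J : Ideal A) (hJ : IsNilpotent J) :
    Module.Flat A M ↔
      Module.Flat (A ⧸ J) ((A ⧸ J) ⊗[A] M) ∧
        ∀ p : associatedPrimes A A,
          haveI : p.1.IsPrime := IsAssociatedPrime.isPrime p.2
          Module.Flat (Localization.AtPrime p.1) (LocalizedModule p.1.primeCompl M) := by
  constructor
  · intro h
    exact ⟨inferInstance, fun p => by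
      haveI : p.1.IsPrime := IsAssociatedPrime.isPrime p.2
      exact flat_localized p.1⟩
  · rintro ⟨h1, h2⟩
    haveI : Finite (associatedPrimes A A) := (associatedPrimes.finite A A).to_subtype
    haveI : ∀ p : associatedPrimes A A, p.1.IsPrime := fun p => IsAssociatedPrime.isPrime p.2
    refine flat_of_flat_mod_nilpotent_of_primes (I := J) hJ (fun p : associatedPrimes A A => p.1)
      (fun r hr => ?_) fun p => ?_
    · by_contra hne
      obtain ⟨P, hP, hle⟩ := exists_le_isAssociatedPrime_of_isNoetherianRing A r hne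
      obtain ⟨t, ht, htr⟩ := hr ⟨P, hP⟩
      exact ht (hle (Submodule.mem_colon_singleton.2 (by simpa using htr)))
    · haveI := h2 p
      exact Module.Flat.trans A (Localization.AtPrime p.1) _

/-- The criterion with symbolic powers. -/
theorem flat_iff_symbolicPowers [IsNoetherianRing A] (J : Ideal A)
    (hsep : ∀ a : Ideal A, IsHausdorff J (↥a ⊗[A] M))
    {r : ℕ} (p : Fin r → Ideal A) [∀ i, (p i).IsPrime] (hp : ∀ i, J ≤ p i)
    (htop : ∀ n : ℕ, ∃ m : ℕ,
      ⨅ i, Ideal.comap (algebraMap A (Localization.AtPrime (p i)))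
        (IsLocalRing.maximalIdeal (Localization.AtPrime (p i)) ^ m) ≤ J ^ n) :
    Module.Flat A M ↔
      Module.Flat (A ⧸ J) ((A ⧸ J) ⊗[A] M) ∧
        ∀ i, Module.Flat (Localization.AtPrime (p i)) (LocalizedModule (p i).primeCompl M) := by
  constructor
  · intro h
    exact ⟨inferInstance, fun i => flat_localized (p i)⟩
  · rintro ⟨h1, h2⟩
    refine flat_of_ideallySeparated J hsep fun n => ?_
    obtain ⟨m, hm⟩ := htop (n + 1)
    let 𝔞 : Ideal A := ⨅ i, Ideal.comap (algebraMap A (Localization.AtPrime (p i)))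
      (IsLocalRing.maximalIdeal (Localization.AtPrime (p i)) ^ m)
    have hJa : J ^ m ≤ 𝔞 := le_iInf fun i => by
      rw [← Ideal.map_le_iff_le_comap, Ideal.map_pow]
      refine Ideal.pow_right_mono ?_ m
      rw [← Localization.AtPrime.map_eq_maximalIdeal]
      exact Ideal.map_mono (hp i)
    haveI := flat_quotient_of_primes (M := M) J 𝔞 (hm.trans (Ideal.pow_le_self n.succ_ne_zero))
      ⟨m, hJa⟩ p hp (fun r hr => by
        simp only [𝔞, Ideal.mem_iInf, Ideal.mem_comap] at hr ⊢
        intro i
        obtain ⟨t, ht, htr⟩ := hr i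
        have h3 := htr i
        rw [map_mul] at h3
        exact (Ideal.unit_mul_mem_iff_mem _ (IsLocalization.map_units (Localization.AtPrime (p i))
          (⟨t, ht⟩ : (p i).primeCompl))).1 h3) h2
    exact FlatDevLib.flat_mod_mono (hm.trans (Ideal.pow_le_pow_right n.le_succ))

/-- The criterion with a flat associated graded ring. -/
theorem flat_iff_gr_flat [IsNoetherianRing A] (J : Ideal A)
    (hsep : ∀ a : Ideal A, IsHausdorff J (↥a ⊗[A] M))
    (hgr : ∀ k : ℕ, Module.Flat (A ⧸ J) ((A ⧸ J) ⊗[A] ↥(J ^ k))) :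
    Module.Flat A M ↔
      Module.Flat (A ⧸ J) ((A ⧸ J) ⊗[A] M) ∧
        ∀ q : associatedPrimes A (A ⧸ J),
          haveI : q.1.IsPrime := IsAssociatedPrime.isPrime q.2
          Module.Flat (Localization.AtPrime q.1) (LocalizedModule q.1.primeCompl M) := by
  classical
  constructor
  · intro h
    exact ⟨inferInstance, fun q => by
      haveI : q.1.IsPrime := IsAssociatedPrime.isPrime q.2
      exact flat_localized q.1⟩
  · rintro ⟨h1, h2⟩
    haveI : Finite (associatedPrimes A (A ⧸ J)) := (associatedPrimes.finite A (A ⧸ J)).to_subtype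
    haveI : ∀ q : associatedPrimes A (A ⧸ J), q.1.IsPrime := fun q => IsAssociatedPrime.isPrime q.2
    have hle : ∀ q : associatedPrimes A (A ⧸ J), J ≤ q.1 := fun q a ha => by
      refine IsAssociatedPrime.annihilator_le q.2 (Module.mem_annihilator.2 fun x => ?_)
      exact Subtype.ext (@FlatDevLib.isTorsionBySet_quot _ _ J x ⟨a, ha⟩)
    refine flat_of_ideallySeparated J hsep fun n => ?_
    haveI := flat_quotient_of_primes (M := M) J (J ^ (n + 1)) (Ideal.pow_le_self n.succ_ne_zero)
      ⟨n + 1, le_rfl⟩ (fun q : associatedPrimes A (A ⧸ J) => q.1) hle (fun r hr => ?_) h2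
    · exact FlatDevLib.flat_mod_mono (Ideal.pow_le_pow_right n.le_succ)
    let 𝔟 : Ideal A := (J ^ (n + 1)).colon {r}
    have hb : ∀ q : associatedPrimes A (A ⧸ J), ¬ 𝔟 ≤ q.1 := fun q hq => by
      obtain ⟨t, ht, htr⟩ := hr q
      exact ht (hq (Submodule.mem_colon_singleton.2 (by simpa using htr)))
    obtain ⟨t, htb, htreg⟩ : ∃ t ∈ 𝔟, ∀ y : A ⧸ J, t • y = 0 → y = 0 := by
      by_contra hcon
      push Not at hcon
      have hsub : (𝔟 : Set A) ⊆ ⋃ q ∈ ((associatedPrimes.finite A (A ⧸ J)).toFinset : Set (Ideal A)),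
          ((id q : Ideal A) : Set A) := by
        intro t ht
        obtain ⟨y, hy, hy0⟩ := hcon t ht
        have hmem : t ∈ ⋃ q ∈ associatedPrimes A (A ⧸ J), (q : Set A) := by
          rw [biUnion_associatedPrimes_eq_zero_divisors]
          exact ⟨y, hy0, hy⟩
        simpa using hmem
      obtain ⟨q, hq, hqle⟩ := (Ideal.subset_union_prime ⊥ ⊥ fun q hq _ _ =>
        IsAssociatedPrime.isPrime ((associatedPrimes.finite A (A ⧸ J)).mem_toFinset.1 hq)).1 hsub
      exact hb ⟨q, (associatedPrimes.finite A (A ⧸ J)).mem_toFinset.1 hq⟩ hqle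
    have htr : t * r ∈ J ^ (n + 1) := by simpa using Submodule.mem_colon_singleton.1 htb
    have hind : ∀ j ≤ n + 1, r ∈ J ^ j := by
      intro j
      induction j with
      | zero => simp
      | succ j ih =>
        intro hj
        have hrj := ih (by omega)
        let N := (A ⧸ J) ⊗[A] ↥(J ^ j)
        let μ : (A ⧸ J) →ₗ[A ⧸ J] (A ⧸ J) := LinearMap.mulLeft (A ⧸ J) (Ideal.Quotient.mk J t)
        have hμ : Function.Injective μ := by
          rw [injective_iff_map_eq_zero]
          intro y hy
          refine htreg y ?_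
          rw [Algebra.smul_def]
          exact hy
        haveI : Module.Flat (A ⧸ J) N := hgr j
        have hinj : ∀ z : N, Ideal.Quotient.mk J t • z = 0 → z = 0 := by
          intro z hz
          have h3 : μ.lTensor N (z ⊗ₜ[A ⧸ J] (1 : A ⧸ J)) = μ.lTensor N 0 := by
            rw [LinearMap.lTensor_tmul, map_zero]
            show z ⊗ₜ (Ideal.Quotient.mk J t * 1) = 0
            rw [← smul_eq_mul, ← TensorProduct.smul_tmul, hz, TensorProduct.zero_tmul]
          simpa using congrArg (TensorProduct.rid (A ⧸ J) N)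
            (Module.Flat.lTensor_preserves_injective_linearMap μ hμ h3)
        let e := TensorProduct.quotTensorEquivQuotSMul ↥(J ^ j) J
        have hsmul : ∀ s ∈ J ^ (j + 1), ∀ hs : s ∈ J ^ j,
            (Submodule.Quotient.mk ⟨s, hs⟩ : ↥(J ^ j) ⧸ (J • ⊤ : Submodule A ↥(J ^ j))) = 0 := by
          intro s hs' hs
          rw [Submodule.Quotient.mk_eq_zero, Submodule.mem_smul_top_iff, smul_eq_mul, ← pow_succ']
          exact hs'
        have hz : Ideal.Quotient.mk J t • ((Ideal.Quotient.mk J 1 ⊗ₜ[A] ⟨r, hrj⟩ : N)) = 0 := by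
          rw [show Ideal.Quotient.mk J t = algebraMap A (A ⧸ J) t from rfl, algebraMap_smul]
          refine e.injective ?_
          rw [map_smul, map_zero, TensorProduct.quotTensorEquivQuotSMul_mk_tmul, one_smul,
            ← Submodule.Quotient.mk_smul]
          exact hsmul (t * r) (Ideal.pow_le_pow_right hj htr) _
        have h5 := congrArg e (hinj _ hz)
        rw [map_zero, TensorProduct.quotTensorEquivQuotSMul_mk_tmul, one_smul,
          Submodule.Quotient.mk_eq_zero, Submodule.mem_smul_top_iff, smul_eq_mul, ← pow_succ'] at h5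
        exact h5
    exact hind (n + 1) le_rfl

end Groth.Agent.FlatCrit
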